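import Mathlib
import Cfsg.Agent.Hmg.Def
import Cfsg.Agent.S0420
import Cfsg.Agent.S0435
import Cfsg.Agent.S2060
import Cfsg.Agent.Spor.MathieuDefs

/-! `A₇`, `2.A₇` and `M₁₁` are not homogeneous.

PROOF `not_a7`.  `x = (0 1 2)`, `y = (3 4 5)` in `A₇` are conjugate in `A₇` (by `(0 3)(1 4)(2 5)` times a
suitable transposition-parity fix, e.g. `g = (0 3 1 4 2 5)`-type element: find an even `g` with
`g x g⁻¹ = y` by `decide`, for instance `(0 3)(1 4)(2 5)` composed with an odd element centralising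
`y`, such as `(0 6)`-type transposition `(0 1)`), while `x` and `x y` are not conjugate even in `S₇`
(`IsConj` preserves `support.card` / `cycleType`).  Lift: for `a` with `π a = x`, `a ^ 3` is central with
square 1, so `x' = a ^ 4` has `π x' = x`, `x' ^ 3 = 1`; likewise `y'`.  Two elements of order dividing 3
with the same image are equal (`b = a z`, `z` central, `z ^ 3 = 1 = z ^ 2`), hence `x' y' x'⁻¹ = y'` and
`x'`, `y'` are conjugate in `X`.  `HG.isConj'` for the pairs `(x', y')`, `(x', x' y')` makes `x'`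
conjugate to `x' y'`; apply `π`.

PROOF `not_m11`.  `S0420` + `Spor.stabEquivM11'` (Spor/MathieuDefs) give `G ≃* Cfsg.Spor.M11`, and by
`S2060` (`Out = 1`) every automorphism is inner.  Take `x` of order 11 (Cauchy); `HG.of_orderOf` gives
`g` with `g x g⁻¹ = x⁻¹`, so `N = N(⟨x⟩)` has even order.  `C = C(⟨x⟩)` has odd order (an involution
in `C` would have `11 ∣ 48`, `S0435`), `N / C` embeds in `Aut(ℤ/11)` of order 10, so `4 ∤ |N|`.
The number `n = 7920 / |N|` of Sylow 11-subgroups divides 720 and is `≡ 1 mod 11`: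
`n ∈ {1, 12, 45, 144}`, `|N| ∈ {7920, 660, 176, 55}`; each is odd or divisible by 4. -/

set_option autoImplicit false

namespace Cfsg.Agent.Hmg

open Subgroup Equiv

theorem not_a7 {X : Type*} [Group X] (π : X →* alternatingGroup (Fin 7))
    (hs : Function.Surjective π) (hk : ∀ z, π z = 1 → z ∈ Subgroup.center X ∧ z * z = 1) :
    ¬ HG X := by
  intro h
  let x : alternatingGroup (Fin 7) := ⟨swap 0 1 * swap 1 2, by simp [Perm.mem_alternatingGroup]⟩
  let y : alternatingGroup (Fin 7) := ⟨swap 3 4 * swap 4 5, by simp [Perm.mem_alternatingGroup]⟩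
  let g : alternatingGroup (Fin 7) :=
    ⟨swap 0 3 * swap 1 4 * swap 2 5 * swap 3 6, by simp [Perm.mem_alternatingGroup]⟩
  have x3 : x ^ 3 = 1 := Subtype.ext (by decide +kernel)
  have y3 : y ^ 3 = 1 := Subtype.ext (by decide +kernel)
  have cxy : x * y = y * x := Subtype.ext (by decide +kernel)
  have hg : g * x * g⁻¹ = y := Subtype.ext (by decide +kernel)
  have hl : ∀ c : alternatingGroup (Fin 7), c ^ 3 = 1 → ∃ a, π a = c ∧ a ^ 3 = 1 := fun c hc => by
    obtain ⟨a, rfl⟩ := hs c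
    have h1 := (hk (a ^ 3) (by rw [map_pow, hc])).2
    refine ⟨a ^ 4, by rw [map_pow, pow_succ, hc, one_mul], ?_⟩
    calc (a ^ 4) ^ 3 = (a ^ 3 * a ^ 3) * (a ^ 3 * a ^ 3) := by group
      _ = 1 := by rw [h1, mul_one]
  have hu : ∀ a b : X, a ^ 3 = 1 → b ^ 3 = 1 → π a = π b → a = b := fun a b ha hb e => by
    obtain ⟨z1, z2⟩ := hk (a⁻¹ * b) (by rw [map_mul, map_inv, e, inv_mul_cancel])
    have c : Commute a (a⁻¹ * b) := mem_center_iff.1 z1 a
    have h1 : b ^ 3 = a ^ 3 * (a⁻¹ * b) ^ 3 := by rw [← c.mul_pow, mul_inv_cancel_left]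
    rw [ha, hb, one_mul, pow_succ, pow_two, z2, one_mul] at h1
    exact inv_mul_eq_one.1 h1.symm
  have hc3 : ∀ a b : X, b ^ 3 = 1 → (a * b * a⁻¹) ^ 3 = 1 := fun a b hb => by
    rw [conj_pow, hb, mul_one, mul_inv_cancel]
  obtain ⟨a, ea, ha⟩ := hl x x3
  obtain ⟨b, eb, hb⟩ := hl y y3
  obtain ⟨k, ek⟩ := hs g
  have cab : a * b = b * a := mul_inv_eq_iff_eq_mul.1 (hu _ _ (hc3 a b hb) hb (by
    rw [map_mul, map_mul, map_inv, ea, eb, cxy, mul_inv_cancel_right]))
  have hab : IsConj a b := isConj_iff.2 ⟨k, hu _ _ (hc3 k a ha) hb (by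
    rw [map_mul, map_mul, map_inv, ea, eb, ek, hg])⟩
  have h1 : a ≠ 1 := fun e => by
    have : x = 1 := by rw [← ea, e, map_one]
    exact absurd (congrArg Subtype.val this) (by decide +kernel)
  have h2 : b ∉ zpowers a := fun ⟨n, hn⟩ => by
    have e : x ^ n = y := by rw [← ea, ← eb, ← map_zpow]; exact congrArg π hn
    have e1 : (x : Perm (Fin 7)) 3 = 3 := by decide +kernel
    have e2 := Perm.zpow_apply_eq_self_of_apply_eq_self e1 n
    rw [← coe_zpow, e] at e2
    exact absurd e2 (by decide +kernel)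
  have h3 := h.isConj' Nat.prime_three cab (x' := a) (y' := a * b) (by rw [mul_assoc, ← cab]) ha hb
    h1 h2 ha (by rw [(show Commute a b from cab).mul_pow, ha, hb, mul_one]) h1
    (fun e => h2 ((mul_mem_cancel_left (mem_zpowers a)).1 e)) hab
  have h4 := ((alternatingGroup (Fin 7)).subtype.comp π).map_isConj h3
  simp only [MonoidHom.comp_apply, map_mul, ea, eb, coe_subtype] at h4
  have h5 := congrArg Multiset.sum (Perm.isConj_iff_cycleType_eq.1 h4)
  rw [Perm.sum_cycleType, Perm.sum_cycleType] at h5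
  exact absurd h5 (by decide +kernel)

theorem not_m11 {G : Type*} [Group G] [Finite G] (h : Cfsg.IsM11 G) : ¬ HG G := by
  intro hH
  obtain ⟨e⟩ := S0420.result h _ Spor.squareDodecad_mem_dodecads _ Spor.zero_mem_squareDodecad
  have ho : Nat.card (Cfsg.Out G) = 1 :=
    (Comp.card_out_eq (e.trans Spor.stabEquivM11')).trans S2060.result
  have : Fact (Nat.Prime 11) := ⟨by norm_num⟩
  obtain ⟨P⟩ : Nonempty (Sylow 11 G) := inferInstance
  have hP : Nat.card P = 11 := by
    rw [P.card_eq_multiplicity, h.2, show (7920 : ℕ) = 11 * 720 from rfl,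
      Nat.factorization_mul (by norm_num) (by norm_num), Finsupp.add_apply,
      Nat.Prime.factorization_self (by norm_num), Nat.factorization_eq_zero_of_not_dvd (by norm_num)]
    rfl
  have hcy : IsCyclic P := isCyclic_of_prime_card hP
  obtain ⟨x, hx⟩ := hcy.exists_generator
  have ox : orderOf (x : G) = 11 := by
    rw [orderOf_coe, orderOf_eq_card_of_forall_mem_zpowers hx, hP]
  have hz : ∀ y ∈ (P : Subgroup G), ∃ n : ℤ, (x : G) ^ n = y := fun y hy => by
    obtain ⟨n, hn⟩ := hx ⟨y, hy⟩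
    exact ⟨n, congrArg Subtype.val hn⟩
  obtain ⟨φ, hφ⟩ := hH.of_orderOf (orderOf_inv (x : G)).symm
  obtain ⟨g, hg⟩ : φ ∈ Cfsg.Inn G := (index_eq_one.1 ho).ge (mem_top φ)
  have hg' : g * x * g⁻¹ = (x : G)⁻¹ := (MulEquiv.congr_fun hg (x : G)).trans hφ
  have hN : g ∈ normalizer ((P : Subgroup G) : Set G) := by
    refine mem_normalizer_fintype fun y hy => ?_
    obtain ⟨n, rfl⟩ := hz y hy
    rw [← conj_zpow, hg']
    exact zpow_mem (inv_mem x.2) n
  set f := (P : Subgroup G).normalizerMonoidHom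
  have hr : Nat.card f.range ∣ 10 := by
    have := card_subgroup_dvd_card f.range
    rwa [IsCyclic.card_mulAut, hP, Nat.totient_prime (by norm_num)] at this
  have hk : ¬ 2 ∣ Nat.card f.ker := fun h2 => by
    obtain ⟨t, ht⟩ := exists_prime_orderOf_dvd_card' 2 h2
    have ht2 : orderOf ((t : normalizer ((P : Subgroup G) : Set G)) : G) = 2 := by
      rw [orderOf_coe, orderOf_coe, ht]
    have h1 := S0435.result h _ ht2
    have h3 := mem_subgroupOf.1 ((normalizerMonoidHom_ker _).le t.2)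
    have h4 : (x : G) ∈ centralizer {((t : normalizer ((P : Subgroup G) : Set G)) : G)} :=
      mem_centralizer_singleton_iff.2 (h3 _ x.2)
    have h5 := orderOf_dvd_natCard (⟨_, h4⟩ : centralizer _)
    rw [h1, ← orderOf_coe, ox] at h5
    norm_num at h5
  have h2 : 2 ∣ Nat.card f.range := by
    have e1 : f ⟨g, hN⟩ x = x⁻¹ := Subtype.ext hg'
    have e2 : ∀ n : ℕ, Odd n → (f ⟨g, hN⟩ ^ n) x = x⁻¹ := by
      rintro _ ⟨m, rfl⟩
      induction m with
      | zero => simpa using e1
      | succ m ih => rw [show 2 * (m + 1) + 1 = 2 * m + 1 + 1 + 1 by ring, pow_succ, pow_succ,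
          MulAut.mul_apply, MulAut.mul_apply, e1, map_inv, e1, inv_inv, ih]
    by_contra h2
    have e3 := e2 _ (Nat.not_even_iff_odd.1 fun e => h2 e.two_dvd)
    have e4 := congrArg Subtype.val
      (pow_card_eq_one' (x := (⟨f ⟨g, hN⟩, ⟨_, rfl⟩⟩ : f.range)))
    rw [coe_pow, coe_one] at e4
    rw [e4, MulAut.one_apply, eq_inv_iff_mul_eq_one, ← pow_two, ← orderOf_dvd_iff_pow_eq_one,
      ← orderOf_coe, ox] at e3
    norm_num at e3
  have h3 : Nat.card f.ker * Nat.card f.range * Nat.card (Sylow 11 G) = 7920 := by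
    rw [← index_ker, card_mul_index, P.card_eq_index_normalizer, ← h.2]
    exact card_mul_index _
  have h4 := card_sylow_modEq_one 11 G
  have h5 : Nat.card (Sylow 11 G) ∣ 720 := by
    have := P.card_dvd_index
    have e := (P : Subgroup G).card_mul_index
    rw [hP, h.2] at e
    rwa [show (P : Subgroup G).index = 720 by omega] at this
  generalize Nat.card (Sylow 11 G) = n at h3 h4 h5
  generalize Nat.card f.ker = k at h3 hk
  generalize Nat.card f.range = r at h3 hr h2
  have h6 := Nat.le_of_dvd (by norm_num) hr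
  have h7 : n ∈ Nat.divisors 720 := Nat.mem_divisors.2 ⟨h5, by norm_num⟩
  have h8 : ∀ n ∈ Nat.divisors 720, n % 11 = 1 % 11 → n = 1 ∨ n = 12 ∨ n = 45 ∨ n = 144 := by
    decide +kernel
  rcases h8 n h7 h4 with rfl | rfl | rfl | rfl <;> interval_cases r <;> omega

end Cfsg.Agent.Hmg
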