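import Mathlib
import Cfsg.Agent.Hmg.Ch
import Cfsg.Agent.Hmg.Lin
import Cfsg.Agent.Pyr.Quad
import Cfsg.Agent.S3773
import Cfsg.Agent.S3774
import Cfsg.Agent.Grp.Card

/-! A `2`-group `R` with central `Ω₁(R) = V` on which `Aut` induces `GL(V)`. -/

set_option autoImplicit false
set_option linter.unusedSectionVars false

namespace Cfsg.Agent.Hmg

open Subgroup Module
open scoped commutatorElement

/-- a `2`-group that is elementary abelian modulo its central subgroup `Ω₁` -/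
structure ZD {T : Type*} [Group T] {A : Type*} [AddCommGroup A] (ι : A → T) : Prop
    extends Ch ι where
  two : IsPGroup 2 T
  cen : ∀ a x, ι a * x = x * ι a
  om : ∀ t, t * t = 1 → ∃ a, ι a = t
  sq' : ∀ x, ∃ a, ι a = x * x
  cm : ∀ x y : T, ∃ a, ι a = ⁅x, y⁆

namespace ZD

variable {T : Type*} [Group T] [Finite T] {A : Type*} [AddCommGroup A] [Module (ZMod 2) A]
  {ι : A → T} (h : ZD ι)
include h

theorem card_om : Nat.card {x : T // x ^ 2 = 1} = Nat.card A :=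
  (Nat.card_eq_of_bijective (fun a => (⟨ι a, by rw [sq, h.toCh.sq]⟩ : {x : T // x ^ 2 = 1}))
    ⟨fun _ _ e => h.inj (congrArg Subtype.val e), fun x =>
      let ⟨a, e⟩ := h.om x (by rw [← sq, x.2]); ⟨a, Subtype.ext e⟩⟩).symm

theorem card_le : Nat.card T ≤ Nat.card A ^ 3 := by
  rw [← h.card_om]
  refine (S3773.result h.two ?_ (fun x => ?_) fun x y hx hy => ?_).1
  · refine commutator_eq_bot_iff_le_centralizer.2 (commutator_le.2 fun x _ y _ g _ => ?_)
    obtain ⟨a, e⟩ := h.cm x y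
    rw [← e, h.cen]
  · obtain ⟨a, e⟩ := h.sq' x
    rw [show 4 = 2 * 2 from rfl, pow_mul, sq x, ← e, sq, h.toCh.sq]
  · obtain ⟨a, rfl⟩ := h.om x (by rw [← sq, hx])
    obtain ⟨b, rfl⟩ := h.om y (by rw [← sq, hy])
    rw [← h.add, sq, h.toCh.sq]

theorem normal : h.toCh.rng.Normal := ⟨by
  rintro _ ⟨a, rfl⟩ g
  exact ⟨a, by rw [← h.cen, mul_inv_cancel_right]⟩⟩

theorem main (h2 : 2 ≤ finrank (ZMod 2) A) (hne : ∃ x : T, x * x ≠ 1)
    (hN : ∀ τ : A ≃ₗ[ZMod 2] A, ∃ φ : T ≃* T, ∀ a, φ (ι a) = ι (τ a)) :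
    ((∀ x y : T, x * y = y * x) ∧ ∀ a, ∃ p, p * p = ι a) ∨
      (Nat.card T = Nat.card A ^ 3 ∧ ∀ (α : T ≃* T) (l : Dual (ZMod 2) A) (c : A), l ≠ 0 → c ≠ 0 →
        (∀ x, ∃ a, ι a = α (α x) * x⁻¹) → ¬ ∀ a, α (ι a) = ι (a + l a • c)) := by
  have : Finite A := Finite.of_injective _ h.inj
  obtain ⟨x0, hx0⟩ := hne
  have : Nontrivial T := ⟨x0, 1, by rintro rfl; simp at hx0⟩
  obtain ⟨p, hA, hp⟩ : ∃ p, Nat.card A = p + 1 ∧ 0 < p := by
    have := Module.natCard_eq_pow_finrank (K := ZMod 2) (V := A)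
    rw [Nat.card_zmod] at this
    have := Nat.pow_le_pow_right (by norm_num : 0 < 2) h2
    exact ⟨Nat.card A - 1, by omega, by omega⟩
  have tr : ∀ {a b : A}, a ≠ 0 → b ≠ 0 → ∃ τ : A ≃ₗ[ZMod 2] A, τ a = b := fun ha hb =>
    (Lin.step1 (f := 0) ha hb rfl rfl).imp fun _ e => e.1
  have h4 : Nat.card T = (p + 1) ^ 2 ∨ Nat.card T = (p + 1) ^ 3 := by
    obtain ⟨m, hm⟩ := (S3774.result h.two fun x y x1 x2 y1 y2 => by
      obtain ⟨a, rfl⟩ := h.om x (by rw [← sq, x2])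
      obtain ⟨b, rfl⟩ := h.om y (by rw [← sq, y2])
      obtain ⟨τ, rfl⟩ := tr (mt h.toCh.eq_one_iff.2 x1) (mt h.toCh.eq_one_iff.2 y1)
      exact (hN τ).imp fun _ e => e a).2
    have e1 := h.card_le
    rw [h.card_om, hA] at hm
    rw [hA, hm, Nat.pow_le_pow_iff_right (by omega)] at e1
    have e2 : Nat.card A < Nat.card T := by
      rw [← h.toCh.card_rng]
      refine lt_of_le_of_ne (Nat.card_le_card_of_injective _ Subtype.val_injective) fun e => ?_
      obtain ⟨a, rfl⟩ := (eq_top_of_card_eq _ e).ge (mem_top x0)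
      exact hx0 (h.toCh.sq a)
    rw [hA, hm] at e2
    rcases m with _ | _ | _ | _ | m
    · simp at e2
    · simp at e2
    · exact Or.inl hm
    · exact Or.inr hm
    · omega
  choose s hs using h.sq'
  have hsc : ∀ (φ : T ≃* T) (τ : A → A), (∀ a, φ (ι a) = ι (τ a)) → ∀ x, s (φ x) = τ (s x) :=
    fun φ τ e x => h.inj (by rw [hs, ← e, hs, map_mul])
  have hs0 : ∀ x, s x = 0 ↔ x ∈ h.toCh.rng := fun x => by
    rw [← h.toCh.eq_one_iff, hs]
    exact ⟨h.om x, by rintro ⟨a, rfl⟩; exact h.toCh.sq a⟩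
  have hz : ∀ x v, s v = 0 → v * x = x * v := fun x v hv => by
    obtain ⟨a, rfl⟩ := (hs0 v).1 hv
    exact h.cen a x
  have hsv : ∀ x v, s v = 0 → s (x * v) = s x := fun x v hv => h.inj (by
    rw [hs, hs, mul_assoc, ← mul_assoc v, hz x v hv, mul_assoc, ← hs v, hv, h.toCh.zero, mul_one])
  have f0 : {x | s x = 0}.ncard = p + 1 := by
    rw [← hA, ← h.toCh.card_rng]
    exact congrArg Set.ncard (Set.ext hs0)
  have hc0 : s x0 ≠ 0 := fun e => hx0 (by rw [← hs, e, h.toCh.zero])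
  obtain ⟨m, hm⟩ : ∃ m, ∀ a ≠ 0, {x | s x = a}.ncard = m := ⟨{x | s x = s x0}.ncard, fun a ha => by
    obtain ⟨τ, rfl⟩ := tr hc0 ha
    obtain ⟨g, hg⟩ := hN τ
    rw [← Set.ncard_preimage_of_injective_subset_range g.injective
      (by rw [g.surjective.range_eq]; exact Set.subset_univ _)]
    exact congrArg Set.ncard (Set.ext fun x => by simp [hsc g τ hg])⟩
  have htot := (Pyr.card_fib s f0 hm Set.univ).1 trivial
  simp only [Set.mem_univ, Set.ofPred_true, Set.ncard_univ, hA] at htot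
  rcases h4 with h4 | h4
  · have h5 : m = p + 1 := Nat.eq_of_mul_eq_mul_left hp (by rw [h4] at htot; nlinarith)
    have h6 : ∀ x y, s x ≠ 0 → s y = s x → ∃ v, s v = 0 ∧ x * v = y := fun x y hx hy => by
      have := Set.eq_of_subset_of_ncard_le (s := (x * ·) '' {v | s v = 0}) (t := {y | s y = s x})
        (by rintro _ ⟨v, hv, rfl⟩; exact hsv x v hv)
        (by rw [hm _ hx, Set.ncard_image_of_injective _ (mul_right_injective x), f0, h5])
      exact (this ▸ hy : y ∈ (x * ·) '' {v | s v = 0})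
    refine Or.inl ⟨fun x y => ?_, fun a => ?_⟩
    · by_contra hxy
      have hx : s x ≠ 0 := fun e => hxy (hz y x e)
      have hy : s y ≠ 0 := fun e => hxy (hz x y e).symm
      obtain ⟨f, e1, e2, e3⟩ := Pyr.exists_fn (a := s x) (b := s y) (c := s (x * y))
        (fun e => hxy (mul_left_cancel ((hz x _ e).symm.trans (mul_assoc _ _ _))))
        (fun e => by
          obtain ⟨v, hv, e'⟩ := h6 _ _ hx e
          exact hy (mul_left_cancel e' ▸ hv))
        (fun e => by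
          obtain ⟨v, hv, e'⟩ := h6 _ _ hy e
          rw [← hz y v hv] at e'
          exact hx (mul_right_cancel e' ▸ hv))
        (fun e => by
          have := congrArg ι e
          rw [h.add, hs, hs, hs, mul_assoc, mul_assoc, mul_right_inj, ← mul_assoc,
            ← mul_assoc, mul_left_inj] at this
          exact hxy this.symm)
      obtain ⟨τ, hτ, -⟩ := Lin.ex_tv f _ e1
      obtain ⟨g, hg⟩ := hN τ
      obtain ⟨u, hu, eu⟩ := h6 x (g x) hx (by rw [hsc g τ hg, hτ, e1]; simp)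
      obtain ⟨v, hv, ev⟩ := h6 y (g y) hy (by rw [hsc g τ hg, hτ, e2]; simp)
      have := hsc g τ hg (x * y)
      rw [map_mul, ← eu, ← ev, ← mul_assoc, hsv _ v hv, mul_assoc, hz y u hu, ← mul_assoc,
        hsv _ u hu, hτ, e3, one_smul, left_eq_add] at this
      exact hx this
    · by_cases a0 : a = 0
      · exact ⟨1, by rw [a0, h.toCh.zero, mul_one]⟩
      obtain ⟨x, hx⟩ := Set.nonempty_of_ncard_ne_zero (s := {x | s x = a})
        (by rw [hm a a0, h5]; omega)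
      exact ⟨x, by rw [← hs, show s x = a from hx]⟩
  refine Or.inr ⟨hA ▸ h4, fun α l c l0 hc hyy hg => ?_⟩
  have h5 : m = (p + 1) ^ 2 + (p + 1) :=
    Nat.eq_of_mul_eq_mul_left hp (by rw [h4] at htot; nlinarith)
  obtain ⟨w, hw⟩ := Lin.ex1 l0
  have := h.normal
  let π := QuotientGroup.mk' h.toCh.rng
  have hπ : ∀ x, π x = 1 ↔ x ∈ h.toCh.rng := fun x => QuotientGroup.eq_one_iff x
  have hcm : ∀ x y, π x * π y = π y * π x := fun x y =>
    commutatorElement_eq_one_iff_mul_comm.1 ((map_commutatorElement π _ _).symm.trans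
      ((hπ _).2 (h.cm x y)))
  let δ : T →* T ⧸ h.toCh.rng := MonoidHom.mk' (fun x => π (α x * x⁻¹)) fun a b => by
    rw [map_mul α, show α a * α b * (a * b)⁻¹ = α a * ((α b * b⁻¹) * a⁻¹) by group, map_mul, map_mul π _ a⁻¹,
      hcm _ a⁻¹, ← mul_assoc, ← map_mul]
  have hδ : ∀ x, x ∈ δ.ker ↔ α x * x⁻¹ ∈ h.toCh.rng := fun x => hπ _
  have c1 : δ.range ≤ δ.ker.map π := by
    rintro _ ⟨x, rfl⟩
    refine mem_map_of_mem _ ((hδ _).2 ?_)
    have := mul_mem (show _ ∈ h.toCh.rng from hyy x)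
      (show _ ∈ h.toCh.rng from ⟨_, hs (α x * x⁻¹)⁻¹⟩)
    convert this using 1
    simp only [map_mul, map_inv]; group
  have c2 := Grp.card_map_mk'_mul_of_le h.toCh.rng (H := δ.ker) (by
    rintro _ ⟨a, rfl⟩
    exact (hδ _).2 (mul_mem ⟨_, (hg a).symm⟩ (inv_mem ⟨a, rfl⟩)))
  have c3 := δ.ker.card_mul_index
  rw [index_ker, h4] at c3
  rw [h.toCh.card_rng, hA] at c2
  have c4 := card_le_of_le c1
  have c5 : (p + 1) ^ 2 ≤ Nat.card δ.ker := by
    refine (Nat.pow_le_pow_iff_left two_ne_zero).1 ?_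
    calc ((p + 1) ^ 2) ^ 2 = Nat.card δ.ker * (Nat.card δ.range * (p + 1)) := by
          rw [← mul_assoc, c3]; ring
      _ ≤ _ := by
        rw [sq]
        exact Nat.mul_le_mul_left _ (c2 ▸ Nat.mul_le_mul_right _ c4)
  choose br hbr using fun x u : T => h.cm x⁻¹ u
  refine Pyr.quad_false h.two (fun x => l (s x)) (fun x u => l (br x u)) (fun x u => ?_)
    (fun x x' u => ?_) δ.ker (fun u hu => ?_) (by positivity) c5 ?_
  · rw [← map_add, ← map_add]
    refine congrArg l (h.inj ?_)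
    simp only [h.add, hs, hbr, commutatorElement_def]; group
  · rw [← map_add]
    refine congrArg l (h.inj ?_)
    have := h.cen (br x u) x'
    rw [h.add, hbr, hbr x']
    calc _ = x'⁻¹ * ι (br x u) * x' * ⁅x'⁻¹, u⁆ := by
          simp only [hbr, commutatorElement_def]; group
      _ = _ := by rw [mul_assoc _ _ x', this]; group
  · have e2 := (hs0 _).2 ((hδ u).1 hu)
    have e3 := hsc α _ hg u
    rw [← inv_mul_cancel_right (α u) u, hz _ _ e2, hsv _ _ e2, left_eq_add] at e3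
    exact (smul_eq_zero.1 e3).resolve_right hc
  · have e1 := (Pyr.card_fib s f0 hm {a | l a = 0}).1 (map_zero l)
    have e2 := (Pyr.card_fib s f0 hm {a | l a = 1}).2 (by simp)
    have e3 : {a | l a = 0}.ncard = {a | l a = 1}.ncard := by
      rw [← Set.ncard_image_of_injective _ (add_left_injective w)]
      refine congrArg Set.ncard (Set.ext fun a => ⟨?_, fun ha => ⟨a - w, ?_, by simp⟩⟩)
      · rintro ⟨a, ha, rfl⟩
        change l _ = 1
        rw [map_add, ha, hw, zero_add]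
      · change l _ = 0
        rw [map_sub, ha, hw, sub_self]
    rw [e3, ← e2, h5] at e1
    simp only [Set.mem_ofPred_eq] at e1
    omega

end ZD

theorem exists_res {G : Type*} [Group G] [Finite G] (φ : G ≃* G) (P : Subgroup G)
    (h : ∀ x ∈ P, φ x ∈ P) : ∃ ψ : P ≃* P, ∀ x, (ψ x : G) = φ x :=
  ⟨MulEquiv.ofBijective ((φ.toMonoidHom.comp P.subtype).codRestrict P fun x => h x x.2)
    (Finite.injective_iff_bijective.1 fun _ _ e =>
      Subtype.ext (φ.injective (congrArg Subtype.val e))), fun _ => rfl⟩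

theorem exists_Z2 {G : Type*} [Group G] [Finite G] {A : Type*} [AddCommGroup A]
    [Module (ZMod 2) A] {ι : A → G} (hι : Ch ι) (h2 : 2 ≤ finrank (ZMod 2) A) {R : Subgroup G}
    (hR : IsPGroup 2 R) (hA : ∀ a, ι a ∈ R) (hc : ∀ a, ∀ x ∈ R, ι a * x = x * ι a)
    (hΩ : ∀ t ∈ R, t * t = 1 → ∃ a, ι a = t) (hne : ∃ x ∈ R, x * x ≠ 1)
    (hN : ∀ τ : A ≃ₗ[ZMod 2] A, ∃ φ : G ≃* G, (∀ x, φ x ∈ R ↔ x ∈ R) ∧ ∀ a, φ (ι a) = ι (τ a)) :
    ∃ P : Subgroup G,
      (∀ x, x ∈ P ↔ x ∈ R ∧ (∃ a, ι a = x * x) ∧ ∀ y ∈ R, ∃ a, ι a = ⁅x, y⁆) ∧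
      (((∀ x ∈ P, ∀ y ∈ P, x * y = y * x) ∧ ∀ a, ∃ p ∈ P, p * p = ι a) ∨
        ((∀ x ∈ R, (∃ a, ι a = x * x) → x ∈ P) ∧
          ∀ (y : G) (l : Dual (ZMod 2) A) (c : A), l c = 0 → l ≠ 0 → c ≠ 0 →
            y ∈ normalizer (R : Set G) → y * y ∈ R →
            ¬ ∀ a, y * ι a * y⁻¹ = ι (a + l a • c))) := by
  have : Fact (Nat.Prime 2) := ⟨Nat.prime_two⟩
  have cj : ∀ {v x}, v ∈ hι.rng → x ∈ R → x * v * x⁻¹ ∈ hι.rng := by
    rintro _ x ⟨a, rfl⟩ hx
    exact ⟨a, by rw [← hc a x hx, mul_inv_cancel_right]⟩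
  let P : Subgroup G :=
    { carrier := {x | x ∈ R ∧ x * x ∈ hι.rng ∧ ∀ y ∈ R, ⁅x, y⁆ ∈ hι.rng}
      one_mem' := ⟨one_mem _, by simpa using one_mem _, fun y _ => by simpa using one_mem _⟩
      mul_mem' := fun {x y} ⟨a1, a2, a3⟩ ⟨b1, b2, b3⟩ => ⟨mul_mem a1 b1, by
        convert mul_mem (mul_mem (cj (b3 x a1) a1) a2) b2 using 1
        simp only [commutatorElement_def]; group, fun z hz => by
        convert mul_mem (cj (b3 z hz) a1) (a3 z hz) using 1
        simp only [commutatorElement_def]; group⟩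
      inv_mem' := fun {x} ⟨a1, a2, a3⟩ => ⟨inv_mem a1, by
        convert inv_mem a2 using 1
        group, fun z hz => by
        convert cj (inv_mem (a3 z hz)) (inv_mem a1) using 1
        simp only [commutatorElement_def]; group⟩ }
  have mP : ∀ {x}, x ∈ P ↔ x ∈ R ∧ x * x ∈ hι.rng ∧ ∀ y ∈ R, ⁅x, y⁆ ∈ hι.rng := Iff.rfl
  have VP : ∀ a, ι a ∈ P := fun a => ⟨hA a, by rw [hι.sq]; exact one_mem _, fun y hy => by
    rw [commutatorElement_eq_one_iff_mul_comm.2 (hc a y hy)]; exact one_mem _⟩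
  have zd : ∀ (K : Subgroup G) (hV : ∀ a, ι a ∈ K), K ≤ R → (∀ x ∈ K, x * x ∈ hι.rng) →
      (∀ x ∈ K, ∀ y ∈ K, ⁅x, y⁆ ∈ hι.rng) → ZD fun a => (⟨ι a, hV a⟩ : K) := fun K hV a b c =>
    ⟨⟨fun _ _ e => hι.inj (congrArg Subtype.val e), fun a b => Subtype.ext (hι.add a b)⟩,
      hR.to_le a, fun v x => Subtype.ext (hc v x (a x.2)),
      fun t e => (hΩ t (a t.2) (congrArg Subtype.val e)).imp fun _ e => Subtype.ext e,
      fun x => (b x x.2).imp fun _ e => Subtype.ext e,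
      fun x y => (c x x.2 y y.2).imp fun _ e => Subtype.ext e⟩
  have inv : ∀ (φ : G ≃* G) (τ : A → A), (∀ x, φ x ∈ R ↔ x ∈ R) → (∀ a, φ (ι a) = ι (τ a)) →
      ∀ x ∈ P, φ x ∈ P := fun φ τ a b x hx => by
    have k : ∀ {v}, v ∈ hι.rng → φ v ∈ hι.rng := by
      rintro _ ⟨v, rfl⟩
      exact ⟨_, (b v).symm⟩
    refine ⟨(a x).2 hx.1, map_mul φ x x ▸ k hx.2.1, fun y hy => ?_⟩
    obtain ⟨y, rfl⟩ := φ.surjective y
    exact map_commutatorElement φ x y ▸ k (hx.2.2 y ((a y).1 hy))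
  have ne : ∃ x : P, x * x ≠ 1 := by
    have : (hι.rng.subgroupOf R).Normal := ⟨fun v hv g => cj (v := v) hv g.2⟩
    obtain ⟨x, hx, x1⟩ := hne
    have hq := hR.to_quotient (hι.rng.subgroupOf R)
    have : Nontrivial (R ⧸ hι.rng.subgroupOf R) := ⟨(⟨x, hx⟩ : R), 1, fun e => by
      obtain ⟨a, e⟩ := (QuotientGroup.eq_one_iff _).1 e
      exact x1 (by rw [← show ι a = x from e, hι.sq])⟩
    have := hq.center_nontrivial
    obtain ⟨n, n0, hn⟩ := (hq.to_subgroup (center _)).nontrivial_iff_card.1 this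
    obtain ⟨⟨z, hz⟩, oz⟩ := exists_prime_orderOf_dvd_card' (G := center (R ⧸ hι.rng.subgroupOf R)) 2
      (hn ▸ dvd_pow_self 2 n0.ne')
    obtain ⟨z, rfl⟩ := QuotientGroup.mk_surjective z
    obtain ⟨o1, o2⟩ := orderOf_eq_prime_iff.1 oz
    refine ⟨⟨z, z.2, ?_, fun y hy => ?_⟩, fun e => o2 (Subtype.ext ((QuotientGroup.eq_one_iff _).2
      (hΩ z z.2 (congrArg Subtype.val e))))⟩
    · exact (QuotientGroup.eq_one_iff (N := hι.rng.subgroupOf R) (z * z)).1
        (by rw [QuotientGroup.mk_mul, ← sq]; exact congrArg Subtype.val o1)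
    · refine (QuotientGroup.eq_one_iff (N := hι.rng.subgroupOf R) ⁅z, ⟨y, hy⟩⁆).1 ?_
      exact (map_commutatorElement (QuotientGroup.mk' _) _ _).trans
        (commutatorElement_eq_one_iff_mul_comm.2 (mem_center_iff.1 hz _).symm)
  refine ⟨P, fun x => Iff.rfl, ((zd P VP (fun _ a => a.1) (fun _ a => a.2.1)
    fun _ a _ b => a.2.2 _ b.1).main h2 ne fun τ => ?_).imp (fun ⟨a, b⟩ =>
      ⟨fun x hx y hy => congrArg Subtype.val (a ⟨x, hx⟩ ⟨y, hy⟩), fun v =>
        let ⟨p, e⟩ := b v; ⟨p, p.2, congrArg Subtype.val e⟩⟩) fun ⟨a, b⟩ =>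
      ⟨fun x hx x2 => ?_, fun y l c _ l0 c0 hy y2 e => ?_⟩⟩
  · obtain ⟨φ, a, b⟩ := hN τ
    obtain ⟨ψ, e⟩ := exists_res φ P (inv φ τ a b)
    exact ⟨ψ, fun v => Subtype.ext ((e _).trans (b v))⟩
  · have xP : x * x ∈ P := by obtain ⟨v, e⟩ := x2; exact e ▸ VP v
    have nP : ∀ {g}, g ∈ P → x⁻¹ * g * x ∈ P := fun {g} hg => by
      obtain ⟨v, e⟩ := hg.2.2 _ (inv_mem hx)
      convert mul_mem (inv_mem (e ▸ VP v)) hg using 1
      simp only [commutatorElement_def]; group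
    let K : Subgroup G :=
      { carrier := {g | g ∈ P ∨ g * x ∈ P}
        one_mem' := Or.inl (one_mem _)
        mul_mem' := by
          rintro g k (hg | hg) (hk | hk)
          · exact Or.inl (mul_mem hg hk)
          · exact Or.inr (mul_assoc g k x ▸ mul_mem hg hk)
          · exact Or.inr (by convert mul_mem hg (nP hk) using 1; group)
          · exact Or.inl (by convert mul_mem (mul_mem hg (nP hk)) (inv_mem xP) using 1; group)
        inv_mem' := by
          rintro g (hg | hg)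
          · exact Or.inl (inv_mem hg)
          · exact Or.inr (by
              convert nP (mul_mem xP (inv_mem hg)) using 1; group) }
    have KR : K ≤ R := fun g hg => hg.elim And.left fun a => (mul_mem_cancel_right hx).1 a.1
    have cx : ∀ g ∈ K, ⁅x⁻¹, g⁆ ∈ hι.rng := by
      rintro g (hg | hg)
      · exact commutatorElement_inv g x⁻¹ ▸ inv_mem (hg.2.2 _ (inv_mem hx))
      · convert inv_mem (hg.2.2 _ (inv_mem hx)) using 1
        simp only [commutatorElement_def]; group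
    have := (zd K (fun v => Or.inl (VP v)) KR (by
      rintro g (hg | hg)
      · exact hg.2.1
      · convert mul_mem (mul_mem (cj (cx _ (Or.inl hg)) hg.1) hg.2.1)
          (inv_mem (show x * x ∈ hι.rng from x2)) using 1
        simp only [commutatorElement_def]; group) (by
      rintro g (hg | hg) k hk
      · exact hg.2.2 _ (KR hk)
      · convert mul_mem (cj (cx _ hk) hg.1) (hg.2.2 _ (KR hk)) using 1
        simp only [commutatorElement_def]; group)).card_le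
    have e := eq_of_le_of_card_ge (show P ≤ K from fun _ => Or.inl) (a ▸ this)
    simpa using inv_mem (e.ge (show x⁻¹ ∈ K from Or.inr (by simpa using one_mem P)))
  · obtain ⟨ψ, e'⟩ := exists_res (MulAut.conj y) P (inv _ _
      (fun x => (mem_normalizer_iff.1 hy x).symm) e)
    refine b ψ l c l0 c0 (fun x => ?_) fun v => Subtype.ext ((e' _).trans (e v))
    obtain ⟨v, hv⟩ := inv_mem (x.2.2.2 _ y2)
    refine ⟨v, Subtype.ext (hv.trans ?_)⟩
    simp only [coe_mul, coe_inv, e', MulAut.conj_apply, commutatorElement_def, mul_inv_rev, inv_inv,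
      mul_assoc]

end Cfsg.Agent.Hmg
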