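import Mathlib
import Cfsg.Agent.Hmg.FD
import Cfsg.Agent.Hmg.Lin
import Cfsg.Agent.Hmg.Z2

/-! A maximal elementary abelian subgroup is Sylow in its centraliser. -/

set_option autoImplicit false
set_option linter.unusedSectionVars false

namespace Cfsg.Agent.Hmg

open Subgroup Module Cfsg.Agent.PLocal
open scoped commutatorElement

variable {G : Type*} [Group G] {A : Type*} [AddCommGroup A] {ι : A → G}

theorem Z2_map {R P : Subgroup G}
    (hP : ∀ x, x ∈ P ↔ x ∈ R ∧ (∃ a, ι a = x * x) ∧ ∀ y ∈ R, ∃ a, ι a = ⁅x, y⁆) {φ : G ≃* G}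
    (hR : ∀ x, φ x ∈ R ↔ x ∈ R) {τ : A → A} (hτ : Function.Surjective τ)
    (h : ∀ a, φ (ι a) = ι (τ a)) (x : G) : φ x ∈ P ↔ x ∈ P := by
  have h1 : ∀ z, (∃ a, ι a = φ z) ↔ ∃ a, ι a = z := fun z =>
    ⟨fun ⟨a, e⟩ => let ⟨b, hb⟩ := hτ a; ⟨b, φ.injective (by rw [h, hb, e])⟩,
      fun ⟨a, e⟩ => ⟨τ a, by rw [← h, e]⟩⟩
  rw [hP, hP, hR, ← map_mul, h1, φ.surjective.forall]
  simp only [hR, ← map_commutatorElement, h1]

theorem mem_normalizer_of {R : Subgroup G} {g : G} (h : ∀ x, g * x * g⁻¹ ∈ R ↔ x ∈ R) :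
    g ∈ normalizer (R : Set G) := mem_normalizer_iff.2 fun x => (h x).symm

variable [Module (ZMod 2) A]

theorem transv_transv {l : Dual (ZMod 2) A} {c : A} (h : l c = 0) (a : A) :
    a + l a • c + l (a + l a • c) • c = a := by
  rw [map_add, map_smul, h, smul_zero, add_zero, add_assoc, add_self_two, add_zero]

theorem transv_sq {l : Dual (ZMod 2) A} {c : A} (h : l c = 0) {x : G}
    (hx : ∀ a, x * ι a * x⁻¹ = ι (a + l a • c)) (a : A) : ι a * (x * x) = x * x * ι a := by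
  rw [eq_comm, ← mul_inv_eq_iff_eq_mul]
  calc _ = x * (x * ι a * x⁻¹) * x⁻¹ := by group
    _ = _ := by rw [hx, hx, transv_transv h]

theorem transv_pow {l : Dual (ZMod 2) A} {c : A} (h : l c = 0) {x : G}
    (hx : ∀ a, x * ι a * x⁻¹ = ι (a + l a • c)) (m : ℕ) (a : A) :
    x ^ (2 * m + 1) * ι a * (x ^ (2 * m + 1))⁻¹ = ι (a + l a • c) := by
  rw [pow_succ', pow_mul, sq, mul_assoc x, ← (Commute.pow_right (transv_sq h hx a) m).eq, ← hx]
  group

theorem exists_ne_zero (h : 1 ≤ finrank (ZMod 2) A) : ∃ a : A, a ≠ 0 :=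
  have := Module.nontrivial_of_finrank_pos h
  exists_ne 0

variable [Finite G]

/-- a `2`-element inducing a transvection and normalising a Sylow subgroup of `K ≤ C` -/
theorem TV.exists_norm (hT : TV ι) {R K : Subgroup G} (hR : IsSylowIn 2 R K)
    {l : Dual (ZMod 2) A} {c : A} (h : l c = 0) (hK : ∀ x ∈ K, ∀ a, ι a * x = x * ι a)
    (hn : ∀ x, (∀ a, x * ι a * x⁻¹ = ι (a + l a • c)) → ∀ y, x * y * x⁻¹ ∈ K ↔ y ∈ K) :
    ∃ y, Two y ∧ y ∈ normalizer (R : Set G) ∧ ∀ a, y * ι a * y⁻¹ = ι (a + l a • c) := by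
  have : Fact (Nat.Prime 2) := ⟨Nat.prime_two⟩
  obtain ⟨x, -, hx⟩ := hT l c h
  obtain ⟨k, hk, e⟩ := frattini_aut hR (MulAut.conj x) (hn x hx)
  obtain ⟨m, hm⟩ := exists_two_pow (k * x)
  refine ⟨_, hm, pow_mem (mem_normalizer_of fun y => ?_) _, transv_pow h (fun a => ?_) m⟩
  · simpa [mul_assoc] using e y
  · rw [eq_comm, ← mul_inv_cancel_right (ι _) k, hK k hk, ← hx]; group

theorem cx_of_tv (hG : HG G) (hι : Ch ι) (h3 : 3 ≤ finrank (ZMod 2) A) (hT : TV ι) (hM : MX ι) :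
    CX ι := by
  have : Fact (Nat.Prime 2) := ⟨Nat.prime_two⟩
  have : Finite A := Finite.of_injective _ hι.inj
  intro t ht htc
  have hK : ∀ {x}, x ∈ centralizer (hι.rng : Set G) ↔ ∀ a, ι a * x = x * ι a :=
    ⟨fun h a => h _ ⟨a, rfl⟩, by rintro h _ ⟨a, rfl⟩; exact h a⟩
  obtain ⟨R, hR, hA⟩ := exists_isSylowIn_ge hι.isPGroup
    (show hι.rng ≤ centralizer _ by rintro _ ⟨a, rfl⟩; exact hK.2 fun b => hι.comm b a)
  have hc := fun a x hx => hK.1 (hR.le hx : x ∈ _) a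
  by_contra hne
  have hφ : ∀ (φ : G ≃* G) (τ : A → A), τ.Surjective → (∀ a, φ (ι a) = ι (τ a)) →
      ∀ x, φ x ∈ centralizer (hι.rng : Set G) ↔ x ∈ centralizer (hι.rng : Set G) :=
    fun φ τ hτ h x => by
      rw [hK, hK, hτ.forall]
      simp only [← h, ← map_mul, φ.injective.eq_iff]
  have hy : ∀ (l : Dual (ZMod 2) A) (c : A), l c = 0 → ∃ y, Two y ∧ y ∈ normalizer (R : Set G) ∧
      ∀ a, y * ι a * y⁻¹ = ι (a + l a • c) := fun l c h =>
    hT.exists_norm hR h (fun x => hK.1) fun x hx =>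
      hφ (MulAut.conj x) _ (fun a => ⟨_, transv_transv h a⟩) hx
  obtain ⟨P, hP, ⟨h1, h2⟩ | ⟨-, h2⟩⟩ := exists_Z2 hι (by omega) hR.isPGroup (fun a => hA ⟨a, rfl⟩) hc
    (fun t ht h => hM t h fun a => hc a t ht) (by
      obtain ⟨g, hg, e⟩ := ht.exists_conj_mem hR (hK.2 htc)
      refine ⟨_, e, fun h => hne ?_⟩
      obtain ⟨a, ha⟩ := hM _ h fun a => hc a _ e
      exact ⟨a, mul_left_cancel ((hK.1 hg a).symm.trans (by rw [ha, inv_mul_cancel_right]))⟩)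
    (fun τ => by
      obtain ⟨φ, h⟩ := hι.exists_aut hG τ
      obtain ⟨k, hk, e⟩ := frattini_aut hR φ (hφ φ τ τ.surjective h)
      exact ⟨φ.trans (MulAut.conj k), e, fun a => by
        rw [MulEquiv.trans_apply, h, MulAut.conj_apply, ← hK.1 hk, mul_inv_cancel_right]⟩)
  · have hAP : ∀ a, ι a ∈ P := fun a => (hP _).2 ⟨hA ⟨a, rfl⟩, ⟨0, hι.zero.trans (hι.sq a).symm⟩,
      fun y hy => ⟨0, hι.zero.trans (commutatorElement_eq_one_iff_mul_comm.2 (hc a y hy)).symm⟩⟩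
    choose! s hs using fun p hp => ((hP p).1 hp).2.1
    have D : FD ι P s := ⟨hι, h1, hAP, hs, fun a =>
      let ⟨p, hp, e⟩ := h2 a; ⟨p, hp, hι.inj ((hs p hp).trans e)⟩,
      fun t ht h => hM t ht fun a => h _ (hAP a)⟩
    obtain ⟨X, hX, h4, h5⟩ := exists_inj h3 D.L fun f u h => by
      obtain ⟨y, -, hy1, hy2⟩ := hy f u h
      exact D.smulRight_mem hG h (mem_normalizer_of (Z2_map hP (φ := MulAut.conj y)
        (fun x => (mem_normalizer_iff.1 hy1 x).symm) (fun a => ⟨_, transv_transv h a⟩) hy2)) hy2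
    obtain ⟨b, hb, hb'⟩ := D.exists_inv hX h4 h5
    obtain ⟨a, rfl⟩ := hM b hb fun a => (mul_inv_eq_iff_eq_mul.1 (D.fix hb' a)).symm
    obtain ⟨w, hw⟩ := exists_ne_zero (A := A) (by omega)
    exact hw (h4 w (by rw [D.ind_unique hb' (D.ind_of_mem (hAP a))]; rfl))
  · obtain ⟨c, hc0⟩ := exists_ne_zero (A := A) (by omega)
    obtain ⟨l, hl, hlc, -⟩ := exists_dual₂ h3 c c
    obtain ⟨y, hy0, hy1, hy2⟩ := hy l c hlc
    exact h2 y l c hlc hl hc0 hy1 (hy0.mul_self.mem_of_normalizer hR (hK.2 (transv_sq hlc hy2))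
      (mul_mem hy1 hy1)) hy2

end Cfsg.Agent.Hmg
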