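import Mathlib
import Cfsg.Agent.Hmg.CX

/-! The centraliser of a hyperplane of a maximal elementary abelian subgroup. -/

set_option autoImplicit false
set_option linter.unusedSectionVars false

namespace Cfsg.Agent.Hmg

open Subgroup Module Cfsg.Agent.PLocal

variable {G : Type*} [Group G] {W : Type*} [AddCommGroup W] [Module (ZMod 2) W]

/-- `κ` is a chart of a hyperplane `U` of `U⟨a⟩` -/
structure HP (κ : W → G) (a : G) : Prop where
  ch : Ch κ
  sq : a * a = 1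
  comm : ∀ w, κ w * a = a * κ w
  nmem : ∀ w, κ w ≠ a
  cx : ∀ t, t * t = 1 → (∀ w, κ w * t = t * κ w) → (∀ w, κ w ≠ t) → ∀ y, Two y →
    (∀ w, κ w * y = y * κ w) → y * t = t * y → ∃ w, κ w = y ∨ κ w * t = y
  kl : ∀ t, t * t = 1 → (∀ w, κ w * t = t * κ w) → (∀ w, κ w ≠ t) → ∀ x c, Two x →
    (∀ w, κ w * x = x * κ w) → x * t * x⁻¹ = κ c * t → x * x = 1 ∨ x * x = κ c
  tv1 : ∀ c, ∃ x, Two x ∧ (∀ w, κ w * x = x * κ w) ∧ x * a * x⁻¹ = κ c * a
  tv2 : ∀ (f : Dual (ZMod 2) W) e, f e = 0 → ∃ g, (∀ w, g * κ w * g⁻¹ = κ (w + f w • e)) ∧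
    g * a * g⁻¹ = a

theorem Ch.ext {κ : W → G} (h : Ch κ) {t : G} (h1 : t * t = 1) (h2 : ∀ w, κ w * t = t * κ w)
    (h3 : ∀ w, κ w ≠ t) : Ch fun x : W × ZMod 2 => κ x.1 * t ^ x.2.val := by
  have ha : ∀ x y : W × ZMod 2, κ (x + y).1 * t ^ (x + y).2.val =
      κ x.1 * t ^ x.2.val * (κ y.1 * t ^ y.2.val) := fun x y => by
    rw [Prod.fst_add, Prod.snd_add, h.add, mul_assoc, mul_assoc, mul_right_inj, ← mul_assoc,
      ← ((show Commute _ _ from h2 _).pow_right _).eq, mul_assoc, mul_right_inj, ← pow_add,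
      ZMod.val_add, ← pow_eq_pow_mod _ (by rwa [_root_.sq])]
  refine ⟨(injective_iff_map_eq_one (MonoidHom.mk' (M := Multiplicative (W × ZMod 2))
    (fun x => κ x.toAdd.1 * t ^ x.toAdd.2.val) ha)).2 ?_, ha⟩
  rintro ⟨w, e⟩ he
  change κ w * t ^ e.val = 1 at he
  rcases Pyr.zmod_two e with rfl | rfl
  · rw [ZMod.val_zero, pow_zero, mul_one, h.eq_one_iff] at he
    subst he; rfl
  · rw [ZMod.val_one, pow_one] at he
    exact (h3 w (by rw [eq_inv_of_mul_eq_one_left he, inv_eq_of_mul_eq_one_right h1])).elim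

theorem exists_hp (hG : HG G) {ι : W × ZMod 2 → G} (hι : Ch ι) (hT : TV ι) (hC : CX ι)
    (hK : KL ι) : HP (fun w => ι (w, 0)) (ι (0, 1)) := by
  have hκ : Ch fun w => ι (w, 0) := hι.comp (AddMonoidHom.inl _ _) (Prod.mk_left_injective 0)
  have key : ∀ t, t * t = 1 → (∀ w, ι (w, 0) * t = t * ι (w, 0)) → (∀ w, ι (w, 0) ≠ t) →
      ∃ φ : G ≃* G, (∀ w, φ (ι (w, 0)) = ι (w, 0)) ∧ φ (ι (0, 1)) = t := fun t h1 h2 h3 => by
    have h4 := hκ.ext h1 h2 h3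
    obtain ⟨φ, h⟩ := hG.add hι.inj h4.inj hι.add h4.add
    exact ⟨φ, fun w => by simpa using h (w, 0), by simpa [hκ.zero, ZMod.val_one] using h (0, 1)⟩
  have h01 : ∀ w, ι (w, 1) = ι (w, 0) * ι (0, 1) := fun w => by rw [← hι.add]; simp
  have hall : ∀ {P : W × ZMod 2 → Prop}, (∀ w, P (w, 0)) → (∀ w, P (w, 1)) → ∀ x, P x :=
    fun h0 h1 x => (Pyr.zmod_two x.2).elim (fun e => by rw [← Prod.mk.eta (p := x), e]; exact h0 _)
      fun e => by rw [← Prod.mk.eta (p := x), e]; exact h1 _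
  refine ⟨hκ, hι.sq _, fun w => hι.comm _ _, fun w e => by simpa using hι.inj e,
    fun t h1 h2 h3 y hy h4 h5 => ?_, fun t h1 h2 h3 x c hx h4 h5 => ?_, fun c => ?_, fun f e h => ?_⟩
  · obtain ⟨φ, e1, rfl⟩ := key t h1 h2 h3
    obtain ⟨y, rfl⟩ := φ.surjective y
    have h6 : ∀ w, ι (w, 0) * y = y * ι (w, 0) := fun w =>
      φ.injective (by rw [map_mul, map_mul, e1, h4])
    obtain ⟨x, rfl⟩ := hC y (by simpa using hy.map φ.symm) (hall h6 fun w => by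
      rw [h01, mul_assoc, ← φ.injective ((map_mul ..).trans (h5.trans (map_mul ..).symm)),
        ← mul_assoc, h6, mul_assoc])
    exact hall (P := fun x => ∃ w, ι (w, 0) = φ (ι x) ∨ ι (w, 0) * φ (ι (0, 1)) = φ (ι x))
      (fun w => ⟨w, Or.inl (e1 w).symm⟩) (fun w => ⟨w, Or.inr (by rw [h01 w, map_mul, e1])⟩) x
  · obtain ⟨φ, e1, rfl⟩ := key t h1 h2 h3
    obtain ⟨x, rfl⟩ := φ.surjective x
    have h6 : ∀ w, x * ι (w, 0) * x⁻¹ = ι (w, 0) := fun w => mul_inv_eq_iff_eq_mul.2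
      (φ.injective (by rw [map_mul, map_mul, e1, h4]))
    rw [← map_mul, ← e1 c, φ.map_eq_one_iff, φ.injective.eq_iff]
    refine hK (LinearMap.snd _ _ _) (c, 0) x rfl (by simpa using hx.map φ.symm)
      (hall (fun w => by simpa using h6 w) fun w => ?_)
    rw [← e1, ← map_inv, ← map_mul, ← map_mul, ← map_mul, φ.injective.eq_iff] at h5
    rw [h01, ← conj_mul, h6, h5, ← hι.add, ← hι.add]
    simp
  · obtain ⟨x, h1, h2⟩ := hT (LinearMap.snd _ _ _) (c, 0) rfl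
    exact ⟨x, h1, fun w => (mul_inv_eq_iff_eq_mul.1 (by simpa using h2 (w, 0))).symm,
      by rw [h2, ← hι.add]; simp⟩
  · obtain ⟨x, -, h2⟩ := hT (f.comp (LinearMap.fst _ _ _)) (e, 0) h
    exact ⟨x, fun w => by simpa using h2 (w, 0), by simpa using h2 (0, 1)⟩

namespace HP
variable {κ : W → G} {a : G} (H : HP κ a)
include H

/-- the group acting on `U⟨a⟩` as transvections with axis `U` -/
def K : Subgroup G where
  carrier := {g | (∀ w, κ w * g = g * κ w) ∧ ∃ c, g * a * g⁻¹ = κ c * a}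
  one_mem' := ⟨by simp, 0, by simp [H.ch.zero]⟩
  mul_mem' := fun {x y} ⟨h1, c, h2⟩ ⟨h3, d, h4⟩ => ⟨fun w => by
    rw [← mul_assoc, h1, mul_assoc, h3, mul_assoc], d + c, by
    calc _ = x * (y * a * y⁻¹) * x⁻¹ := by group
      _ = _ := by rw [h4, ← mul_assoc, ← h1, H.ch.add, mul_assoc (κ d) (κ c), ← h2]; group⟩
  inv_mem' := fun {x} ⟨h1, c, h2⟩ => ⟨fun w => (Commute.inv_right (h1 w)).eq, c, by
    calc _ = x⁻¹ * (κ c * (x * a * x⁻¹)) * x := by
          rw [h2, ← mul_assoc (κ c), H.ch.sq, one_mul, inv_inv]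
      _ = _ := by rw [← mul_assoc, ← mul_assoc, ← mul_assoc, ← (Commute.inv_right (h1 c)).eq]; group⟩

theorem inv_a : a⁻¹ = a := inv_eq_of_mul_eq_one_right H.sq

theorem exists_FD [Finite G] (hG : HG G) (h1 : 1 ≤ finrank (ZMod 2) W) :
    ∃ (P T : Subgroup G) (s : G → W), FD κ P s ∧ Ind κ P s a LinearMap.id ∧ IsPGroup 2 T ∧ P ≤ T ∧
      a ∈ T ∧ (∀ x ∈ T, ∃ X, Ind κ P s x X) ∧
      ∀ (f : Dual (ZMod 2) W) e, f e = 0 → ∃ g, Ind κ P s g (f.smulRight e) := by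
  have : Fact (Nat.Prime 2) := ⟨Nat.prime_two⟩
  have hch := H.ch.ext H.sq H.comm H.nmem
  obtain ⟨T, hT, hA⟩ := exists_isSylowIn_ge hch.isPGroup (H := H.K) (by
    rintro _ ⟨x, rfl⟩
    exact H.K.mul_mem ⟨fun w => H.ch.comm _ _, 0, by rw [H.comm, H.ch.zero]; group⟩
      (H.K.pow_mem ⟨H.comm, 0, by rw [H.ch.zero]; group⟩ _))
  have hU : ∀ w, κ w ∈ T := fun w => hA ⟨(w, 0), by simp⟩
  have ha : a ∈ T := hA ⟨(0, 1), by simp [H.ch.zero, ZMod.val_one]⟩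
  have hc := fun x (hx : x ∈ T) => (hT.le hx).1
  have h2 := fun x (hx : x ∈ T) => Two.of_mem hT.isPGroup hx
  have hsq : ∀ {t} w, t * t = 1 → t ∈ T → κ w * t * (κ w * t) = 1 := fun {t} w h ht => by
    rw [mul_assoc, ← mul_assoc t, ← hc t ht, mul_assoc, h, mul_one, H.ch.sq]
  let Q : G → Prop := fun x => (∃ w, κ w = x) ∨ x * x ≠ 1
  have q1 : ∀ x ∈ T, Q x ↔ ¬ Q (x * a) := fun x hx => by
    obtain ⟨-, c, e⟩ := hT.le hx
    have e1 := H.kl a H.sq H.comm H.nmem x c (h2 x hx) (hc x hx) e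
    have e2 : x * a * (x * a) = κ c * (x * x) := by
      have : x * x * a = a * (x * x) := e1.elim (fun e => by simp [e]) fun e => e ▸ H.comm c
      calc _ = x * a * x⁻¹ * (x * x * a) := by group
        _ = _ := by rw [e, this, mul_assoc, ← mul_assoc a, H.sq, one_mul]
    refine ⟨fun h h' => ?_, fun h => by_contra fun h' => h ?_⟩
    · rcases h with ⟨w, rfl⟩ | h
      · exact h'.elim (fun ⟨v, e⟩ => H.nmem (w + v) (by
          rw [H.ch.add, e, ← mul_assoc, H.ch.sq, one_mul])) fun e => e (hsq w H.sq ha)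
      · refine h'.elim (fun ⟨v, e⟩ => h ?_) fun e => e (by rw [e2, e1.resolve_left h, H.ch.sq])
        rw [← mul_inv_cancel_right x a, ← e, H.inv_a]
        exact hsq v H.sq ha
    · by_cases h0 : c = 0
      · rw [h0, H.ch.zero, one_mul, mul_inv_eq_iff_eq_mul] at e
        obtain ⟨w, e | e⟩ := H.cx a H.sq H.comm H.nmem x (h2 x hx) (hc x hx) e
        · exact (h' (Or.inl ⟨w, e⟩)).elim
        · exact Or.inl ⟨w, by rw [← e, mul_assoc, H.sq, mul_one]⟩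
      · exact Or.inr (by rwa [e2, not_not.1 (not_or.1 h').2, mul_one, Ne, H.ch.eq_one_iff])
  have q2 : ∀ x ∈ T, ∀ y ∈ T, ¬ Q x → ¬ Q y → Q (x * y) := fun x hx y hy e1 e2 => by
    by_contra e3
    simp only [Q, not_or, not_not, not_exists] at e1 e2 e3
    obtain ⟨w, e | e⟩ := H.cx x e1.2 (hc x hx) e1.1 y (h2 y hy) (hc y hy) (by
      rw [← inv_eq_of_mul_eq_one_right e3.2, mul_inv_rev, inv_eq_of_mul_eq_one_right e1.2,
        inv_eq_of_mul_eq_one_right e2.2])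
    · exact e2.1 w e
    · exact e3.1 w (by rw [← e, hc x hx, ← mul_assoc, e1.2, one_mul])
  have q3 : ∀ x, Q x → Q x⁻¹ := fun x => Or.imp (fun ⟨w, e⟩ => ⟨w, by rw [← e, H.ch.inv]⟩)
    fun e => by rwa [← mul_inv_rev, Ne, inv_eq_one]
  let P : Subgroup G :=
    { carrier := {x | x ∈ T ∧ Q x}
      one_mem' := ⟨T.one_mem, Or.inl ⟨0, H.ch.zero⟩⟩
      inv_mem' := fun h => ⟨inv_mem h.1, q3 _ h.2⟩
      mul_mem' := fun {x y} hx hy => ⟨mul_mem hx.1 hy.1, by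
        have := q2 _ (mul_mem hx.1 ha) _ (inv_mem (mul_mem (inv_mem hy.1) ha)) ((q1 x hx.1).1 hx.2)
          fun e => (q1 _ (inv_mem hy.1)).1 (q3 _ hy.2) (by simpa using q3 _ e)
        simpa [mul_assoc] using this⟩ }
  have hi : ∀ p ∈ P, a * p * a = p⁻¹ := fun p hp => eq_inv_of_mul_eq_one_right (by
    rw [← not_not.1 (not_or.1 ((q1 p hp.1).1 hp.2)).2]; group)
  have hi' : ∀ p ∈ P, p * a * p⁻¹ = p * p * a := fun p hp => by
    rw [← hi p hp, ← mul_assoc, ← mul_assoc, mul_assoc p a a, H.sq, mul_one]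
  have hs : ∀ p ∈ P, ∃ w, κ w = p * p := fun p hp => by
    obtain ⟨-, c, e⟩ := hT.le hp.1
    exact ⟨c, mul_right_cancel (e.symm.trans (hi' p hp))⟩
  choose! s hs using hs
  have hsurj : ∀ w, ∃ p ∈ P, s p = w := fun w => by
    obtain ⟨x, e1, e2, e3⟩ := H.tv1 w
    obtain ⟨g, ⟨e4, c, e5⟩, e6⟩ := e1.exists_conj_mem hT ⟨e2, w, e3⟩
    have e7 : g * x * g⁻¹ * a * (g * x * g⁻¹)⁻¹ = κ w * a := by
      have : g⁻¹ * a * g = κ c * a := by
        rw [← mul_right_inj g, ← mul_left_inj g⁻¹, ← mul_assoc g (κ c), ← e4, mul_assoc (κ c),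
          mul_assoc (κ c), e5, ← mul_assoc (κ c), H.ch.sq]; group
      calc _ = g * (x * (g⁻¹ * a * g) * x⁻¹) * g⁻¹ := by group
        _ = κ c * κ w * (g * a * g⁻¹) := by
          rw [this, ← mul_assoc x, ← e2, mul_assoc (κ c), mul_assoc (κ c), e3, ← mul_assoc,
            ← mul_assoc, ← e4, mul_assoc _ g, ← e4]; group
        _ = _ := by rw [e5, H.ch.comm, mul_assoc, ← mul_assoc (κ c), H.ch.sq, one_mul]
    generalize g * x * g⁻¹ = y at e6 e7
    have e8 : ∀ p ∈ P, p * a * p⁻¹ = κ w * a → ∃ p ∈ P, s p = w := fun p hp e =>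
      ⟨p, hp, H.ch.inj ((hs p hp).trans (mul_right_cancel ((hi' p hp).symm.trans e)))⟩
    by_cases hy : Q y
    · exact e8 y ⟨e6, hy⟩ e7
    · exact e8 (y * a) ⟨mul_mem e6 ha, not_not.1 (mt (q1 y e6).2 hy)⟩ (by rw [← e7]; group)
  have D : FD κ P s := ⟨H.ch, fun x hx y hy => inv_injective (by
      rw [mul_inv_rev y, ← hi _ (mul_mem hx hy), ← hi x hx, ← hi y hy]
      simp only [mul_assoc, ← mul_assoc a a, H.sq, one_mul]), fun w => ⟨hU w, Or.inl ⟨w, rfl⟩⟩, hs, hsurj, fun t e1 e2 => by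
    by_contra e3
    obtain ⟨w, hw⟩ := exists_ne_zero h1
    obtain ⟨p, hp, rfl⟩ := hsurj w
    have e4 := fun w => e2 (κ w) ⟨hU w, Or.inl ⟨w, rfl⟩⟩
    obtain ⟨v, e | e⟩ := H.cx t e1 e4 (not_exists.1 e3) p (h2 p hp.1) (hc p hp.1) (e2 p hp) <;>
      refine hw (H.ch.eq_one_iff.1 ((hs p hp).trans ?_))
    · rw [← e, H.ch.sq]
    · rw [← e, mul_assoc, ← mul_assoc t, ← e4, mul_assoc, e1, mul_one, H.ch.sq]⟩
  have hn : ∀ (g : G) (τ : W → W), τ.Surjective → (∀ w, g * κ w * g⁻¹ = κ (τ w)) →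
      (∀ x, g * x * g⁻¹ ∈ T ↔ x ∈ T) → g ∈ normalizer (P : Set G) := fun g τ hτ e1 e2 =>
    mem_normalizer_of fun x => and_congr (e2 x) (or_congr
      ⟨fun ⟨w, e⟩ => let ⟨v, hv⟩ := hτ w
        ⟨v, (MulAut.conj g).injective ((e1 v).trans (by rw [hv, e]; rfl))⟩,
      fun ⟨w, e⟩ => ⟨τ w, by rw [← e1, e]⟩⟩ (by rw [conj_mul, Ne, conj_eq_one_iff]))
  refine ⟨P, T, s, D, fun p hp => ?_, hT.isPGroup, fun x hx => hx.1, ha, fun x hx =>
    D.exists_ind (fun p => (mem_normalizer_iff.1 (hn x id Function.surjective_id (fun w => by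
      rw [← hc x hx, mul_inv_cancel_right]; rfl) fun y => (mem_normalizer_iff.1 (le_normalizer hx)
        y).symm) p).1) (hc x hx), fun f e h => ?_⟩
  · rw [H.inv_a, hi p hp, LinearMap.id_apply, inv_eq_iff_mul_eq_one, ← mul_assoc, ← hs p hp, H.ch.sq]
  · obtain ⟨g, e1, e2⟩ := H.tv2 f e h
    have e0 : Function.Surjective fun w => w + f w • e := fun w => ⟨_, transv_transv h w⟩
    obtain ⟨k, hk, e3⟩ := frattini_aut hT (MulAut.conj g) fun x => and_congr (by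
      rw [e0.forall]
      simp only [← e1, MulAut.conj_apply, conj_mul, mul_left_inj, mul_right_inj]) (by
      rw [e0.exists]
      conv_lhs => simp only [← e1, MulAut.conj_apply]; rw [← e2]
      simp only [conj_mul, conj_inv, mul_left_inj, mul_right_inj])
    have e4 : ∀ w, k * g * κ w * (k * g)⁻¹ = κ (w + f w • e) := fun w => by
      rw [eq_comm, ← mul_inv_cancel_right (κ _) k, hk.1, ← e1]; group
    exact D.smulRight_mem hG h (hn _ _ e0 e4 fun x => by simpa [mul_assoc] using e3 x) e4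

end HP

end Cfsg.Agent.Hmg
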