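import Mathlib
import Cfsg.Agent.Hmg.Def
import Cfsg.Agent.PLocal.PPDBoundU

/-! `PSL₃(q)`, `PSU₃(q)` (`q` odd) and `PSU₃(4)` are not homogeneous.

PROOF (odd characteristic `p`).  Find `z, u, w` in `SL₃` resp. `SU₃` with `z ≠ 1` a transvection
(`(z - 1)² = 0`), `u` regular unipotent (`(u - 1)² ≠ 0`, `u ^ p = 1`), `z u = u z`, `w u w⁻¹ = u z`.
The images of `(u, u z)` and `(z, u)` in the central quotient are commuting pairs generating
`p × p`, so `HG.isConj'` (Hmg/Def) makes the images of `z` and `u` conjugate: `g z g⁻¹ = u c` with `c`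
central; `c ^ p = 1` (both `z`, `u` have `p`-th power 1), `c` is a scalar, so `c = 1`
(`e ^ p = 1 → e = 1` in characteristic `p`); then `(u - 1)² = g (z - 1)² g⁻¹ = 0`, false.
The side conditions (`mk u ≠ 1`, `mk (u z) ∉ zpowers (mk u)`, `mk u ∉ zpowers (mk z)`) follow from
injectivity of `mk` on the unipotent group (a central `p`-element is trivial) and coordinates.
* `SL₃`: `z = 1 + E₁₃`, `u = !![1,1,1/2;0,1,1;0,0,1] = exp (E₁₂ + E₂₃)` has
  `u ^ n = !![1,n,n²/2;0,1,n;0,0,1]`; `w = 1 + E₁₂` (up to sign/inverse).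
* `SU₃`: `UF.of_card`; copy `PLocal.PPD.exists_hom_SU'` (PLocal/PPDBoundU) exporting in addition
  `𝐡 w w = 1`, `𝐡 w u = 0`, `𝐡 u v = 1`: `f : Inv.UH F q →* SU 3 F q` with `f x` the Siegel map
  `IsSiegel u (x.c • w) x.a`, `f x` central only for `x = 1`.  In `UH`: `x = (1, -1/2)` has
  `x ^ n = (n, -n²/2)`; `y = (c, a)` with `σ c ≠ c` (`UH.exists_c`); `y x y⁻¹ = x z₀`, `z₀ = (0, ±(c - σ c))`,
  `z₀ ^ n = (0, n a₀)`.  `(f x - 1)² v = - u ≠ 0`, `(f z₀ - 1)² = 0`.

PROOF for `PSU₃(4)` (`card F = 16`, characteristic 2, `hermForm` is `∑ uᵢ vᵢ^4`).  Take `a` of order 5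
in `Fˣ`; `x = diag(a,a,a³)`, `y = diag(a,a³,a)`, `y' = diag(1,a,a⁴)` lie in `SU 3 F 4`, the permutation
matrix of `(2 3)` lies in `SU` (`det = -1 = 1`) and conjugates `x` to `y`.  The centre of `SU 3 F 4` is
trivial (`Class.U.mem_center_iff`: a scalar `e` with `e³ = 1`, `e⁵ = 1`), so work in `SU` itself
(`HG.congr`).  `HG.isConj'` for the pairs `(x, y)`, `(x, y')` (powers of `x` have equal first two
diagonal entries and `a ≠ a³`, `1 ≠ a`) makes `x` conjugate to `y'`; traces: `a³ = 1 + a + a⁴`,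
with `1 + a + a² + a³ + a⁴ = 0` this gives `a² = 0`. -/

set_option autoImplicit false

namespace Cfsg.Agent.Hmg

open Subgroup Matrix Class.U

theorem unip_core {F : Type*} [Field F] [Fintype F] (ho : Odd (Fintype.card F)) {S : Type*}
    [Group S] (ρ : S →* Matrix (Fin 3) (Fin 3) F) (hρ : Function.Injective ρ)
    (hZ : ∀ c ∈ center S, ∃ e : F, ρ c = e • (1 : Matrix (Fin 3) (Fin 3) F)) {z u w : S}
    (hz : z ≠ 1) (hz2 : (ρ z - 1) ^ 2 = 0) (hu2 : (ρ u - 1) ^ 2 ≠ 0) (hu3 : (ρ u - 1) ^ 3 = 0)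
    (c : z * u = u * z) (hw : w * u = u * z * w) : ¬ HG (S ⧸ center S) := by
  intro h
  obtain ⟨p, hp⟩ := CharP.exists F
  have pp : p.Prime := CharP.char_is_prime F p
  have : Fact p.Prime := ⟨pp⟩
  have p3 : 3 ≤ p := by
    have h2 : p ≠ 2 := by
      rintro rfl
      have := FiniteField.even_card_of_char_two (ringChar.eq F 2)
      rw [Nat.odd_iff] at ho; omega
    have := pp.two_le
    omega
  have hpow : ∀ (a : S) (k : ℕ), k ≤ p → (ρ a - 1) ^ k = 0 → a ^ p = 1 := fun a k hk e => hρ (by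
    have := pow_eq_zero_of_le hk e
    rw [sub_pow_char_of_commute _ (Commute.one_right _), one_pow, sub_eq_zero] at this
    rw [map_pow, map_one, this])
  have zp := hpow z 2 (by omega) hz2
  have up := hpow u 3 p3 hu3
  have hu : ∀ a b : S, a ^ p = 1 → b ^ p = 1 → (a : S ⧸ center S) = b → a = b := fun a b ha hb e => by
    have z1 := QuotientGroup.eq.1 e
    have c : Commute a (a⁻¹ * b) := mem_center_iff.1 z1 a
    have h1 : b ^ p = a ^ p * (a⁻¹ * b) ^ p := by rw [← c.mul_pow, mul_inv_cancel_left]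
    rw [ha, hb, one_mul] at h1
    obtain ⟨e, he⟩ := hZ _ z1
    have h2 := congrArg ρ h1
    rw [map_pow, he, map_one, smul_pow, one_pow] at h2
    have h3 : e ^ p = 1 := by simpa using (congrFun (congrFun h2 0) 0).symm
    have h4 : e = 1 := frobenius_inj F p (by rw [frobenius_def, h3, map_one])
    rw [h4, one_smul, ← map_one ρ] at he
    exact inv_mul_eq_one.1 (hρ he)
  have cj : ∀ (g a : S), a ^ p = 1 → (g * a * g⁻¹) ^ p = 1 := fun g a ha => by
    rw [conj_pow, ha, mul_one, mul_inv_cancel]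
  let π := QuotientGroup.mk' (center S)
  have n1 : π z ≠ 1 := fun e => hz (hu z 1 zp (one_pow p) e)
  have n2 : π u ∉ zpowers (π z) := fun e => by
    obtain ⟨k, hk⟩ := (isOfFinOrder_iff_pow_eq_one.2
      ⟨p, pp.pos, by rw [← map_pow, zp, map_one]⟩).mem_powers_iff_mem_zpowers.2 e
    have e1 := hu (z ^ k) u (by rw [← pow_mul, mul_comm, pow_mul, zp, one_pow]) up hk
    refine hu2 ?_
    rw [← e1, map_pow, pow_two]
    nth_rw 1 [← geom_sum_mul]
    rw [← mul_geom_sum, mul_assoc, ← mul_assoc (ρ z - 1), ← pow_two, hz2, zero_mul, mul_zero]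
  have zq : π z ^ p = 1 := by rw [← map_pow, zp, map_one]
  have uq : π u ^ p = 1 := by rw [← map_pow, up, map_one]
  have cq : π z * π u = π u * π z := by rw [← map_mul, c, map_mul]
  have n3 : π u * π z ∉ zpowers (π u) := fun e => by
    obtain ⟨k, hk⟩ := (mul_mem_cancel_left (mem_zpowers _)).1 e
    have := ((indep pp zq uq n1 n2 (-1) k).1 (by rw [← hk]; simp)).1
    exact pp.one_lt.ne' (by exact_mod_cast Int.eq_one_of_dvd_one (by positivity) (dvd_neg.1 this))
  have h1 := h.isConj' pp (x := π u) (y := π u * π z) (by rw [mul_assoc, cq]) cq uq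
    (by rw [(show Commute (π u) (π z) from cq.symm).mul_pow, uq, zq, mul_one])
    (fun e => n2 (e ▸ one_mem _)) n3 zq uq n1 n2
    (isConj_iff.2 ⟨π w, by rw [← map_mul, hw, map_mul, map_mul, mul_inv_cancel_right]⟩)
  obtain ⟨g, hg⟩ := isConj_iff.1 h1
  obtain ⟨g, rfl⟩ := QuotientGroup.mk'_surjective _ g
  have h2 := hu (g * z * g⁻¹) u (cj g z zp) up hg
  refine hu2 ?_
  have h3 : ρ g⁻¹ * ρ g = 1 := by rw [← map_mul, inv_mul_cancel, map_one]
  have h4 : ρ u - 1 = ρ g * (ρ z - 1) * ρ g⁻¹ := by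
    rw [mul_sub, sub_mul, mul_one, ← map_mul, ← map_mul, ← map_mul, h2, mul_inv_cancel, map_one]
  calc (ρ u - 1) ^ 2 = ρ g * ((ρ z - 1) * (ρ g⁻¹ * ρ g) * (ρ z - 1)) * ρ g⁻¹ := by
        rw [h4, pow_two]; simp only [mul_assoc]
    _ = 0 := by rw [h3, mul_one, ← pow_two, hz2, mul_zero, zero_mul]

theorem not_psl3 {F : Type*} [Field F] [Fintype F] (ho : Odd (Fintype.card F)) :
    ¬ HG (Matrix.ProjectiveSpecialLinearGroup (Fin 3) F) := by
  refine unip_core ho SpecialLinearGroup.coeMonoidHom Subtype.val_injective (fun c hc => ?_)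
    (z := ⟨!![1, 0, 1; 0, 1, 0; 0, 0, 1], by simp [det_fin_three]⟩)
    (u := ⟨!![1, 1, 0; 0, 1, 1; 0, 0, 1], by simp [det_fin_three]⟩)
    (w := ⟨!![1, 1, 0; 0, 1, 0; 0, 0, 1], by simp [det_fin_three]⟩)
    (fun e => ?_) ?_ (fun e => ?_) ?_ (Subtype.ext ?_) (Subtype.ext ?_)
  · obtain ⟨r, -, hr⟩ := Matrix.SpecialLinearGroup.mem_center_iff.1 hc
    exact ⟨r, hr.symm.trans (by simp [scalar_apply, smul_one_eq_diagonal])⟩
  · simpa using congrArg (fun x : SpecialLinearGroup (Fin 3) F => x.1 0 2) e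
  · change (!![1, 0, 1; 0, 1, 0; 0, 0, 1] - 1 : Matrix (Fin 3) (Fin 3) F) ^ 2 = 0
    rw [one_fin_three, pow_two]
    ext i j; fin_cases i <;> fin_cases j <;> simp
  · change (!![1, 1, 0; 0, 1, 1; 0, 0, 1] - 1 : Matrix (Fin 3) (Fin 3) F) ^ 2 = 0 at e
    rw [one_fin_three, pow_two] at e
    simpa using congrFun (congrFun e 0) 2
  · change (!![1, 1, 0; 0, 1, 1; 0, 0, 1] - 1 : Matrix (Fin 3) (Fin 3) F) ^ 3 = 0
    rw [one_fin_three, pow_three]
    ext i j; fin_cases i <;> fin_cases j <;> simp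
  · change (!![1, 0, 1; 0, 1, 0; 0, 0, 1] * !![1, 1, 0; 0, 1, 1; 0, 0, 1] : Matrix _ _ F) =
      !![1, 1, 0; 0, 1, 1; 0, 0, 1] * !![1, 0, 1; 0, 1, 0; 0, 0, 1]
    simp
  · change (!![1, 1, 0; 0, 1, 0; 0, 0, 1] * !![1, 1, 0; 0, 1, 1; 0, 0, 1] : Matrix _ _ F) =
      !![1, 1, 0; 0, 1, 1; 0, 0, 1] * !![1, 0, 1; 0, 1, 0; 0, 0, 1] * !![1, 1, 0; 0, 1, 0; 0, 0, 1]
    simp

theorem not_psu3 {F : Type*} [Field F] [Fintype F] {q : ℕ} (hF : Fintype.card F = q ^ 2)
    (ho : Odd q) : ¬ HG (Cfsg.PSU 3 F q) := by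
  have := UF.of_card hF
  obtain ⟨u, v, hu, hv, huv⟩ := exists_hyperbolic (F := F) (q := q) (n := 3) (by norm_num)
  obtain ⟨w, hwu, hwv, hw⟩ := exists_nonisotropic_perp le_rfl hu hv huv
  have hvu := herm_comm_one huv
  have huw := herm_comm_zero hwu
  have hvw := herm_comm_zero hwv
  have u0 : u ≠ 0 := fun e => by simp [e, herm_zero_left] at huv
  obtain ⟨c, hc⟩ := exists_conj_ne F q
  have hx : ∀ t : Fin 3 → F, hermForm 3 F q t u = 0 → ∃ a g, IsSiegel (q := q) u t a g := by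
    intro t ht
    obtain ⟨a, ha⟩ := exists_trace_eq (q := q) (a := -hermForm 3 F q t t) (by rw [map_neg, herm_conj])
    exact ⟨a, exists_siegel hu ht (by rw [ha, neg_add_cancel])⟩
  have hcw : hermForm 3 F q (c • w) u = 0 := by rw [herm_smul_left, hwu, mul_zero]
  obtain ⟨a, x, hx1⟩ := hx w hwu
  obtain ⟨b, y, hy⟩ := hx _ hcw
  obtain ⟨z, hz⟩ := exists_siegel (w := 0) (a := (c - conj F q c) * hermForm 3 F q w w) hu
    (herm_zero_left u) (by simp only [map_mul, map_sub, conj_conj, herm_conj, herm_zero_left]; ring)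
  let ρ : Cfsg.SU 3 F q →* Matrix (Fin 3) (Fin 3) F :=
    SpecialLinearGroup.coeMonoidHom.comp (Cfsg.SU 3 F q).subtype
  have hN : ∀ {t a g}, IsSiegel (q := q) u t a g → ∀ s, (ρ g - 1) *ᵥ s =
      hermForm 3 F q s u • t - hermForm 3 F q s t • u + (a * hermForm 3 F q s u) • u := by
    intro t a g hg s
    rw [sub_mulVec, one_mulVec, show ρ g *ᵥ s = g • s from rfl, hg]
    module
  have h0 := herm_zero_left (q := q) u
  refine unip_core (hF ▸ ho.pow) ρ (Subtype.val_injective.comp Subtype.val_injective)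
    (fun g hg => ?_) (z := z) (u := x) (w := y) (fun e => ?_) ?_ (fun e => ?_) ?_ ?_ ?_
  · obtain ⟨e, he⟩ := (Class.U.mem_center_iff (by norm_num)).1 hg
    exact ⟨e, ext_iff_mulVec.2 fun s => by rw [smul_mulVec, one_mulVec]; exact he s⟩
  · have e1 := hN hz v
    rw [e, map_one, sub_self, zero_mulVec, herm_zero_right, hvu, eq_comm] at e1
    simp [u0, hw, sub_eq_zero, hc.symm] at e1
  · refine ext_iff_mulVec.2 fun s => ?_
    rw [pow_two, ← mulVec_mulVec, hN hz, hN hz]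
    simp [herm_smul_left, herm_zero_right, hu]
  · have e1 := congrArg (· *ᵥ v) e
    simp only [pow_two, ← mulVec_mulVec, hN hx1, herm_add_left, herm_sub_left, herm_smul_left, hu,
      hvu, hwu, huw, hvw] at e1
    simp [u0, hw] at e1
  · refine ext_iff_mulVec.2 fun s => ?_
    simp only [pow_three, ← mulVec_mulVec, hN hx1, herm_add_left, herm_sub_left, herm_smul_left, hu,
      hwu, huw]
    simp
  · refine (hz.mul hx1 hu h0 hwu).unique ?_
    convert hx1.mul hz hu hwu h0 using 1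
    · rw [add_comm]
    · rw [herm_zero_left, herm_zero_right, add_comm]
  · refine (hy.mul hx1 hu hcw hwu).unique ?_
    convert (hx1.mul hz hu hwu h0).mul hy hu (by rw [add_zero, hwu]) hcw using 1
    · rw [add_zero, add_comm]
    · rw [add_zero, herm_zero_left, herm_smul_left, herm_smul_right]; ring

theorem not_psu34 {F : Type*} [Field F] [Fintype F] (hF : Fintype.card F = 16) :
    ¬ HG (Cfsg.PSU 3 F 4) := by
  intro h
  have : UF F 4 := UF.of_card hF
  have h2 : (2 : F) = 0 := pow_eq_zero_iff (n := 4) (by norm_num) |>.1 (by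
    have := FiniteField.cast_card_eq_zero F
    rw [hF] at this
    exact_mod_cast this)
  have : Fact (Nat.Prime 5) := ⟨by norm_num⟩
  obtain ⟨a', ha'⟩ := exists_prime_orderOf_dvd_card' (G := Fˣ) 5
    (by rw [Nat.card_units, Nat.card_eq_fintype_card, hF]; norm_num)
  obtain ⟨a, a5, a1⟩ : ∃ a : F, a ^ 5 = 1 ∧ a ≠ 1 :=
    ⟨a', by rw [← Units.val_pow_eq_pow_val, ← ha', pow_orderOf_eq_one, Units.val_one], fun e => by
      rw [Units.val_eq_one.1 e, orderOf_one] at ha'; omega⟩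
  have a0 : a ≠ 0 := by rintro rfl; simp at a5
  have as : 1 + a + a ^ 2 + a ^ 3 + a ^ 4 = 0 :=
    mul_left_cancel₀ (sub_ne_zero.2 a1) (by linear_combination a5)
  have a3 : a ≠ a ^ 3 := fun e => a1 (by
    have : a ^ 2 = 1 := mul_left_cancel₀ a0 (by linear_combination -e)
    linear_combination a5 - (a ^ 3 + a) * this)
  have hZ : center (Cfsg.SU 3 F 4) = ⊥ := eq_bot_iff.2 fun g hg => by
    obtain ⟨e, he⟩ := (Class.U.mem_center_iff (by norm_num)).1 hg
    have e3 := SU_det_eq_one (M := e • (1 : Matrix (Fin 3) (Fin 3) F)) fun s => by rw [smul_mulVec, one_mulVec, he]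
    have e5 := SU_herm g (Pi.single 0 1) (Pi.single 0 1)
    rw [he, herm_smul_left, herm_smul_right, herm_single_single, conj_apply] at e5
    simp at e3 e5
    exact SU_ext fun s => by
      rw [he, show e = 1 by linear_combination (e ^ 3 + 1) * e3 - e * e5, one_smul, one_smul]
  have h' : HG (Cfsg.SU 3 F 4) :=
    h.congr ((QuotientGroup.quotientMulEquivOfEq hZ).trans QuotientGroup.quotientBot)
  have hd : ∀ i j k : ℕ, 5 ∣ i + j + k → ∃ g : Cfsg.SU 3 F 4,
      g.1.1 = diagonal ![a ^ i, a ^ j, a ^ k] ∧ g ^ 5 = 1 := fun i j k ⟨m, hm⟩ => by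
    have p5 : ∀ i : ℕ, (a ^ i) ^ 5 = 1 := fun i => by rw [← pow_mul, mul_comm, pow_mul, a5, one_pow]
    refine ⟨mkSU (diagonal ![a ^ i, a ^ j, a ^ k]) (fun u v => ?_) ?_, rfl,
      Subtype.ext (Subtype.ext ?_)⟩
    · simp only [Cfsg.hermForm, mulVec_diagonal, Fin.sum_univ_three, cons_val_zero, cons_val_one,
        cons_val]
      linear_combination (u 0 * v 0 ^ 4) * p5 i + (u 1 * v 1 ^ 4) * p5 j + (u 2 * v 2 ^ 4) * p5 k
    · simp only [det_diagonal, Fin.prod_univ_three, cons_val_zero, cons_val_one, cons_val]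
      rw [← pow_add, ← pow_add, hm, pow_mul, a5, one_pow]
    · change diagonal ![a ^ i, a ^ j, a ^ k] ^ 5 = 1
      rw [diagonal_pow, ← diagonal_one]
      congr 1; ext t; fin_cases t <;> simp [p5]
  obtain ⟨x, hx, x5⟩ := hd 1 1 3 (by norm_num)
  obtain ⟨y, hy, y5⟩ := hd 1 3 1 (by norm_num)
  obtain ⟨y', hy', y5'⟩ := hd 0 1 4 (by norm_num)
  obtain ⟨s, hs⟩ : ∃ g : Cfsg.SU 3 F 4, g.1.1 = !![0, 1, 0; 1, 0, 0; 0, 0, 1] :=
    ⟨mkSU _ (fun u v => by
      simp [Cfsg.hermForm, Fin.sum_univ_three, mulVec, dotProduct]; ring)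
      (by simp [det_fin_three]; linear_combination -h2), rfl⟩
  obtain ⟨t, ht⟩ : ∃ g : Cfsg.SU 3 F 4, g.1.1 = !![1, 0, 0; 0, 0, 1; 0, 1, 0] :=
    ⟨mkSU _ (fun u v => by
      simp [Cfsg.hermForm, Fin.sum_univ_three, mulVec, dotProduct]; ring)
      (by simp [det_fin_three]; linear_combination -h2), rfl⟩
  have em : ∀ {g k l m : Cfsg.SU 3 F 4}, g * k = l * m ↔ g.1.1 * k.1.1 = l.1.1 * m.1.1 :=
    ⟨fun e => congrArg (fun g : Cfsg.SU 3 F 4 => g.1.1) e, fun e => Subtype.ext (Subtype.ext e)⟩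
  have cs : Commute x s := em.2 (by
    rw [hx, hs]; ext i j; fin_cases i <;> fin_cases j <;> simp)
  have x1 : x ≠ 1 := fun e => a1 (by
    simpa [e] using (congrFun (congrFun hx 0) 0).symm)
  have h1 := h'.isConj' (p := 5) (by norm_num) (x := x) (y := y) (x' := x) (y' := y')
    (em.2 (by rw [hx, hy]; exact commute_diagonal _ _))
    (em.2 (by rw [hx, hy']; exact commute_diagonal _ _)) x5 y5 x1
    (fun ⟨n, hn⟩ => a3 (by
      have e := em.1 ((show x ^ n = y from hn) ▸ cs.zpow_left n).eq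
      rw [hy, hs] at e
      simpa using congrFun (congrFun e 0) 1)) x5 y5' x1
    (fun ⟨n, hn⟩ => a1 (by
      have e := em.1 ((show x ^ n = y' from hn) ▸ cs.zpow_left n).eq
      rw [hy', hs] at e
      simpa using (congrFun (congrFun e 0) 1).symm))
    (isConj_iff.2 ⟨t, mul_inv_eq_iff_eq_mul.2 (em.2 (by
      rw [hx, hy, ht]; ext i j; fin_cases i <;> fin_cases j <;> simp))⟩)
  obtain ⟨g, hg⟩ := isConj_iff.1 h1
  have e : trace (g.1.1 * x.1.1 * (g⁻¹).1.1) = trace y'.1.1 := by rw [← hg]; rfl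
  rw [trace_mul_cycle, show (g⁻¹).1.1 * g.1.1 = 1 from
    congrArg (fun g : Cfsg.SU 3 F 4 => g.1.1) (inv_mul_cancel g), one_mul, hx, hy'] at e
  simp [Fin.sum_univ_three] at e
  exact a0 (pow_eq_zero_iff (n := 2) two_ne_zero |>.1 (by linear_combination as + e - (a ^ 3 + a) * h2))

end Cfsg.Agent.Hmg
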